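import Mathlib

/-!
# PHYP (S5974), regime r odd: the numerical part

`ROddRHS i c n m` is the `r`-odd part of the right-hand side of S5974 (with `n = 2 d`).
-/

set_option autoImplicit false

namespace Cfsg.Agent.Lib.Helper39.PHyp

/-- the `r` odd part of the right-hand side of S5974, `n = 2 d` -/
def ROddRHS (i c n m : ℕ) : Prop :=
  (Odd i ∧ c ≤ m ∧ m % c ≤ n % c) ∨
  (Even i ∧
    ((n % c = 0 ∧ (Odd (n / i) ∨ (m % c = 0 ∧ Even (m / i)))) ∨
     (i ≤ m ∧ ((m % c < n % c ∧ 0 < m % c) ∨
               (n % c = m % c ∧ 0 < m % c ∧ Even ((n + m - 2 * (n % c)) / i)) ∨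
               (0 < n % c ∧ m % c = 0 ∧ Even (m / i))))))

theorem cval_even {i c : ℕ} (hc : c = if Even i then i else 2 * i) (h : Even i) : c = i := by
  rw [hc, if_pos h]

theorem cval_odd {i c : ℕ} (hc : c = if Even i then i else 2 * i) (h : Odd i) : c = 2 * i := by
  rw [hc, if_neg (Nat.not_even_iff_odd.mpr h)]

theorem cval_pos {i c : ℕ} (hi : 0 < i) (hc : c = if Even i then i else 2 * i) : 0 < c := by
  rcases Nat.even_or_odd i with h | h
  · rw [cval_even hc h]; exact hi
  · rw [cval_odd hc h]; omega

theorem cval_even' {i c : ℕ} (hc : c = if Even i then i else 2 * i) : Even c := by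
  rcases Nat.even_or_odd i with h | h
  · rw [cval_even hc h]; exact h
  · rw [cval_odd hc h]; exact even_two_mul i

/-- the type of an invariant nondegenerate subspace of dimension `c t` of the moved space -/
theorem type_iff {i c : ℕ} (hi : 0 < i) (hc : c = if Even i then i else 2 * i) (t : ℕ) :
    (Odd i ∨ Even (c * t / i)) ↔ (Odd i ∨ Even t) := by
  rcases Nat.even_or_odd i with h | h
  · rw [cval_even hc h, Nat.mul_div_cancel_left t hi]
  · constructor <;> intro _ <;> exact Or.inl h

/-- numerics of the positive direction: the level `j'` of the moved part of the fixed space -/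
theorem num_fix {i c n m j : ℕ} (hi : 0 < i) (hc : c = if Even i then i else 2 * i)
    (hme : Even m) (hm2 : 2 ≤ m) (hmn : 2 * m < n) (hj : c * j ≤ n)
    (htop : c * j = n → (Odd i ∨ Even j))
    (hR : ROddRHS i c n m) :
    ∃ j', j' ≤ j ∧ c * j' ≤ m ∧ m - c * j' ≤ n - c * j ∧
      (m - c * j' = 0 → (Odd i ∨ Even j')) ∧
      (m - c * j' = n - c * j → 0 < m - c * j' → ((Odd i ∨ Even j') ↔ (Odd i ∨ Even j))) := by
  have hcpos : 0 < c := cval_pos hi hc
  unfold ROddRHS at hR
  rcases Nat.even_or_odd i with hev | hodd
  · -- `i` even
    have hci : c = i := cval_even hc hev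
    subst hci
    have hmdm := Nat.div_add_mod m c
    have hndm := Nat.div_add_mod n c
    have hml := Nat.mod_lt m hcpos
    have hnl := Nat.mod_lt n hcpos
    have hjn : j ≤ n / c := (Nat.le_div_iff_mul_le hcpos).mpr (by rw [mul_comm]; exact hj)
    have hjn' : c * j ≤ c * (n / c) := Nat.mul_le_mul_left c hjn
    generalize hm' : m / c = m' at *
    generalize hl' : m % c = l at *
    generalize hn' : n / c = n' at *
    generalize hk' : n % c = k at *
    have hno : ¬ Odd c := Nat.not_odd_iff_even.mpr hev
    have hiff : ∀ a b : ℕ, (Even a ↔ Even b) → ((Odd c ∨ Even a) ↔ (Odd c ∨ Even b)) := by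
      intro a b h
      constructor
      · rintro (h1 | h1)
        · exact absurd h1 hno
        · exact Or.inr (h.mp h1)
      · rintro (h1 | h1)
        · exact absurd h1 hno
        · exact Or.inr (h.mpr h1)
    -- the generic choice `j' = j` when `j ≤ m'` and the remainder is positive or `j < m'`
    have hlow : j ≤ m' → (0 < l ∨ j < m') →
        ∃ j', j' ≤ j ∧ c * j' ≤ m ∧ m - c * j' ≤ n - c * j ∧
          (m - c * j' = 0 → (Odd c ∨ Even j')) ∧
          (m - c * j' = n - c * j → 0 < m - c * j' →
            ((Odd c ∨ Even j') ↔ (Odd c ∨ Even j))) := by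
      intro hjm hpos
      have h1 : c * j ≤ c * m' := Nat.mul_le_mul_left c hjm
      have h2 : 0 < m - c * j := by
        rcases hpos with h | h
        · omega
        · have h3 : c * (j + 1) ≤ c * m' := Nat.mul_le_mul_left c h
          rw [mul_add, mul_one] at h3
          omega
      exact ⟨j, le_rfl, by omega, by omega, fun h => by omega, fun h _ => by omega⟩
    rcases hR with ⟨hodd, -⟩ | ⟨-, hR'⟩
    · exact absurd hodd hno
    rcases hR' with ⟨hk0, hA | ⟨hl0, hme'⟩⟩ | ⟨him, hC | hD | hE⟩
    · -- (A) `k = 0`, `n'` odd
      have hjlt : c * j + c ≤ n := by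
        have hne : c * j ≠ n := by
          intro h
          rcases htop h with h1 | h1
          · exact hno h1
          · have h2 : c * j = c * n' := by omega
            have h3 : j = n' := Nat.eq_of_mul_eq_mul_left hcpos h2
            rw [h3] at h1
            exact (Nat.not_even_iff_odd.mpr hA) h1
        have h4 : j < n' := by
          rcases Nat.lt_or_ge j n' with h | h
          · exact h
          · exfalso
            have : c * n' ≤ c * j := Nat.mul_le_mul_left c h
            omega
        have h5 : c * (j + 1) ≤ c * n' := Nat.mul_le_mul_left c h4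
        rw [mul_add, mul_one] at h5
        omega
      rcases Nat.eq_zero_or_pos l with hl0 | hlpos
      · rcases Nat.lt_or_ge j m' with hjm | hjm
        · exact hlow hjm.le (Or.inr hjm)
        · rcases Nat.even_or_odd m' with hme' | hmo'
          · refine ⟨m', hjm, by omega, by omega, fun _ => Or.inr hme', fun _ h => by omega⟩
          · have hm1 : 1 ≤ m' := hmo'.pos
            have h6 : c * (m' - 1) + c = c * m' := by
              rw [← Nat.mul_succ]; congr 1; omega
            refine ⟨m' - 1, by omega, by omega, by omega, fun h => by omega, fun h _ => ?_⟩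
            apply hiff
            have h7 : c * (j + 1) = c * n' := by rw [mul_add, mul_one]; omega
            have h8 : j + 1 = n' := Nat.eq_of_mul_eq_mul_left hcpos h7
            have h9 : Even j := by
              rw [← h8] at hA
              rcases Nat.even_or_odd j with h | h
              · exact h
              · exact absurd (h.add_one) (Nat.not_even_iff_odd.mpr hA)
            have h10 : Even (m' - 1) := by
              obtain ⟨t, ht⟩ := hmo'
              exact ⟨t, by omega⟩
            exact ⟨fun _ => h9, fun _ => h10⟩
      · rcases le_or_gt j m' with hjm | hjm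
        · exact hlow hjm (Or.inl hlpos)
        · have h1 : c * (m' + 1) ≤ c * j := Nat.mul_le_mul_left c hjm
          rw [mul_add, mul_one] at h1
          exact ⟨m', hjm.le, by omega, by omega, fun h => by omega, fun h _ => by omega⟩
    · -- (B) `k = 0`, `ℓ' = 0`, `m'` even
      rcases Nat.lt_or_ge j m' with hjm | hjm
      · exact hlow hjm.le (Or.inr hjm)
      · exact ⟨m', hjm, by omega, by omega, fun _ => Or.inr hme', fun _ h => by omega⟩
    · -- (C) `0 < ℓ' < k`
      rcases le_or_gt j m' with hjm | hjm
      · exact hlow hjm (Or.inl hC.2)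
      · exact ⟨m', hjm.le, by omega, by omega, fun h => by omega, fun h _ => by omega⟩
    · -- (D) `k = ℓ' > 0`, `n' + m'` even
      obtain ⟨hkl, hlpos, hev2⟩ := hD
      rcases le_or_gt j m' with hjm | hjm
      · exact hlow hjm (Or.inl hlpos)
      · refine ⟨m', hjm.le, by omega, by omega, fun h => by omega, fun h _ => ?_⟩
        apply hiff
        have h2 : c * j = c * n' := by omega
        have h3 : j = n' := Nat.eq_of_mul_eq_mul_left hcpos h2
        have h4 : n + m - 2 * k = c * (n' + m') := by rw [mul_add]; omega
        rw [h4, Nat.mul_div_cancel_left _ hcpos] at hev2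
        rw [h3]
        rw [Nat.even_add] at hev2
        exact hev2.symm
    · -- (E) `k > 0`, `ℓ' = 0`, `m'` even
      obtain ⟨hkpos, hl0, hme'⟩ := hE
      rcases Nat.lt_or_ge j m' with hjm | hjm
      · exact hlow hjm.le (Or.inr hjm)
      · exact ⟨m', hjm, by omega, by omega, fun _ => Or.inr hme', fun _ h => by omega⟩
  · -- `i` odd
    have hmdm := Nat.div_add_mod m c
    have hndm := Nat.div_add_mod n c
    have hml := Nat.mod_lt m hcpos
    have hnl := Nat.mod_lt n hcpos
    have hjn : j ≤ n / c := (Nat.le_div_iff_mul_le hcpos).mpr (by rw [mul_comm]; exact hj)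
    have hjn' : c * j ≤ c * (n / c) := Nat.mul_le_mul_left c hjn
    rcases hR with ⟨-, hcm, hle⟩ | ⟨hev, -⟩
    · rcases le_or_gt j (m / c) with hjm | hjm
      · have h1 : c * j ≤ c * (m / c) := Nat.mul_le_mul_left c hjm
        refine ⟨j, le_rfl, by omega, by omega, fun _ => Or.inl hodd, fun _ _ => ?_⟩
        exact ⟨fun _ => Or.inl hodd, fun _ => Or.inl hodd⟩
      · refine ⟨m / c, hjm.le, by omega, by omega, fun _ => Or.inl hodd, fun _ _ => ?_⟩
        exact ⟨fun _ => Or.inl hodd, fun _ => Or.inl hodd⟩
    · exact absurd hodd (Nat.not_odd_iff_even.mpr hev)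

/-- numerics of the negative direction -/
theorem num_der {i c n m : ℕ} (hi : 0 < i) (hc : c = if Even i then i else 2 * i)
    (hm2 : 2 ≤ m) (hmn : 2 * m < n)
    (hcnt : m < c → (m < n % c ∨ (m = n % c ∧ (Odd i ∨ Even (n / c)))) → False)
    (htop : c ≤ n → (n % c ≠ 0 ∨ Odd i ∨ Even (n / i)) →
       m % c ≤ n % c ∧ (m % c = 0 → (Odd i ∨ Even (m / c))) ∧
       (m % c = n % c → ((Odd i ∨ Even (m / c)) ↔ (Odd i ∨ Even (n / c))))) :
    ROddRHS i c n m := by
  have hcpos : 0 < c := cval_pos hi hc
  unfold ROddRHS
  rcases Nat.even_or_odd i with hev | hodd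
  · -- `i` even
    have hci : c = i := cval_even hc hev
    subst hci
    have hno : ¬ Odd c := Nat.not_odd_iff_even.mpr hev
    rcases Nat.lt_or_ge n c with hnc | hcn
    · exfalso
      have h1 : n % c = n := Nat.mod_eq_of_lt hnc
      exact hcnt (by omega) (Or.inl (by omega))
    · by_cases hA : n % c = 0 ∧ Odd (n / c)
      · exact Or.inr ⟨hev, Or.inl ⟨hA.1, Or.inl hA.2⟩⟩
      · have hside : n % c ≠ 0 ∨ Odd c ∨ Even (n / c) := by
          by_cases hk0 : n % c = 0
          · right; right
            rcases Nat.even_or_odd (n / c) with h | h
            · exact h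
            · exact absurd ⟨hk0, h⟩ hA
          · exact Or.inl hk0
        obtain ⟨F1, F2, F3⟩ := htop hcn hside
        have hmdm := Nat.div_add_mod m c
        have hndm := Nat.div_add_mod n c
        have hml := Nat.mod_lt m hcpos
        have hnl := Nat.mod_lt n hcpos
        generalize hm' : m / c = m' at *
        generalize hl' : m % c = l at *
        generalize hn' : n / c = n' at *
        generalize hk' : n % c = k at *
        right
        refine ⟨hev, ?_⟩
        rcases Nat.eq_zero_or_pos k with hk0 | hkpos
        · have hl0 : l = 0 := by omega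
          have hE : Even m' := by
            rcases F2 hl0 with h | h
            · exact absurd h hno
            · exact h
          exact Or.inl ⟨hk0, Or.inr ⟨hl0, hE⟩⟩
        · right
          rcases Nat.eq_zero_or_pos l with hl0 | hlpos
          · have hE : Even m' := by
              rcases F2 hl0 with h | h
              · exact absurd h hno
              · exact h
            have hm1 : 1 ≤ m' := by
              rcases Nat.eq_zero_or_pos m' with h | h
              · rw [h] at hmdm; omega
              · exact h
            have hcm : c ≤ m := by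
              have : c * 1 ≤ c * m' := Nat.mul_le_mul_left c hm1
              omega
            exact ⟨hcm, Or.inr (Or.inr ⟨hkpos, hl0, hE⟩)⟩
          · rcases Nat.lt_or_ge m c with hmc | hcm
            · exfalso
              have hm0 : m' = 0 := by
                rcases Nat.eq_zero_or_pos m' with h | h
                · exact h
                · have : c * 1 ≤ c * m' := Nat.mul_le_mul_left c h
                  omega
              rw [hm0] at hmdm
              rcases Nat.lt_or_ge l k with hlk | hlk
              · exact hcnt hmc (Or.inl (by omega))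
              · have hlk' : l = k := by omega
                have hE : Even n' := by
                  have h1 := (F3 hlk').mp (Or.inr (by rw [hm0]; exact Even.zero))
                  rcases h1 with h | h
                  · exact absurd h hno
                  · exact h
                exact hcnt hmc (Or.inr ⟨by omega, Or.inr hE⟩)
            · refine ⟨hcm, ?_⟩
              rcases Nat.lt_or_ge l k with hlk | hlk
              · exact Or.inl ⟨hlk, hlpos⟩
              · have hlk' : l = k := by omega
                right; left
                refine ⟨hlk'.symm, hlpos, ?_⟩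
                have h4 : n + m - 2 * k = c * (n' + m') := by rw [mul_add]; omega
                rw [h4, Nat.mul_div_cancel_left _ hcpos, Nat.even_add]
                have h5 := F3 hlk'
                constructor
                · intro h
                  rcases h5.mpr (Or.inr h) with h6 | h6
                  · exact absurd h6 hno
                  · exact h6
                · intro h
                  rcases h5.mp (Or.inr h) with h6 | h6
                  · exact absurd h6 hno
                  · exact h6
  · -- `i` odd
    rcases Nat.lt_or_ge n c with hnc | hcn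
    · exfalso
      have h1 : n % c = n := Nat.mod_eq_of_lt hnc
      exact hcnt (by omega) (Or.inl (by omega))
    · obtain ⟨F1, -, -⟩ := htop hcn (Or.inr (Or.inl hodd))
      rcases Nat.lt_or_ge m c with hmc | hcm
      · exfalso
        have h1 : m % c = m := Nat.mod_eq_of_lt hmc
        rw [h1] at F1
        rcases Nat.lt_or_ge m (n % c) with h | h
        · exact hcnt hmc (Or.inl h)
        · exact hcnt hmc (Or.inr ⟨by omega, Or.inl hodd⟩)
      · exact Or.inl ⟨hodd, hcm, F1⟩

end Cfsg.Agent.Lib.Helper39.PHyp
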