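import Mathlib
import Cfsg.Agent.Lib.Helper23.OHyp.Cnt
import Cfsg.Agent.Lib.Helper39.PHyp.RNum

/-!
# PHYP (S5974), regime `r` odd: the structural core, for a hypothesis bundle `Bdl Q r`

`Bdl Q r` collects, for ONE quadratic form `Q` on `ι → F` and ONE prime `r`, the generic facts
(SPLIT, DIV, SUB, GEOM, SUM, existence of elements, fixed point congruence, inner count) without
any hypothesis on the characteristic.  From it: `strFix_of`, `strDer_of`, `cnt_of`.
-/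

set_option autoImplicit false

universe u

open Matrix
open scoped MatrixGroups
open Cfsg.Agent.Lib.Helper23.OHyp

namespace Cfsg.Agent.Lib.Helper39.PHyp

/-- the hypothesis bundle of the regime `r` odd -/
structure Bdl {F : Type u} [Field F] [Fintype F] {ι : Type} [Fintype ι] [DecidableEq ι]
    (Q : (ι → F) → F) (r : ℕ) : Prop where
  plus_top : Plus Q ⊤
  scal : ∀ z : F, (∀ v, Q ((z • (1 : Matrix ι ι F)) *ᵥ v) = Q v) → z * z = 1
  split : ∀ x : Matrix ι ι F, x ^ r = 1 → (∀ v, Q (x *ᵥ v) = Q v) →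
    Nd Q (fixSp x) ∧ Nd Q (movSp x) ∧ Perp Q (fixSp x) (movSp x) ∧ IsCompl (fixSp x) (movSp x) ∧
    Inv x (movSp x) ∧
    ∀ W : Submodule F (ι → F), Inv x W → Nd Q W →
      Nd Q (W ⊓ fixSp x) ∧ Nd Q (W ⊓ movSp x) ∧ Inv x (W ⊓ movSp x) ∧
      (W ⊓ fixSp x) ⊔ (W ⊓ movSp x) = W ∧
      Module.finrank F W = Module.finrank F ↥(W ⊓ fixSp x) + Module.finrank F ↥(W ⊓ movSp x)
  div : ∀ x : Matrix ι ι F, x ^ r = 1 → (∀ v, Q (x *ᵥ v) = Q v) →
    ∀ W : Submodule F (ι → F), W ≤ movSp x → Inv x W → Nd Q W →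
      cc (Fintype.card F) r ∣ Module.finrank F W ∧
      (Plus Q W ↔ (Odd (ordI (Fintype.card F) r) ∨
        Even (Module.finrank F W / ordI (Fintype.card F) r)))
  sub : ∀ x : Matrix ι ι F, x ^ r = 1 → (∀ v, Q (x *ᵥ v) = Q v) →
    ∀ W : Submodule F (ι → F), W ≤ movSp x → Inv x W → Nd Q W →
    ∀ j : ℕ, cc (Fintype.card F) r * j ≤ Module.finrank F W →
      ∃ W' : Submodule F (ι → F), W' ≤ W ∧ Inv x W' ∧ Nd Q W' ∧
        Module.finrank F W' = cc (Fintype.card F) r * j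
  geom : ∀ C : Submodule F (ι → F), Nd Q C →
    ∀ (e : ℕ) (ε : Prop), Even e → e + 1 ≤ Module.finrank F C → (e = 0 → ε) →
      ∃ W₀ : Submodule F (ι → F), W₀ ≤ C ∧ Nd Q W₀ ∧ Module.finrank F W₀ = e ∧ (Plus Q W₀ ↔ ε)
  sum : ∀ W₁ W₂ : Submodule F (ι → F), Nd Q W₁ → Nd Q W₂ → Perp Q W₁ W₂ →
      Nd Q (W₁ ⊔ W₂) ∧
      Module.finrank F ↥(W₁ ⊔ W₂) = Module.finrank F W₁ + Module.finrank F W₂ ∧
      (Even (Module.finrank F W₁) → Even (Module.finrank F W₂) →
        (Plus Q (W₁ ⊔ W₂) ↔ (Plus Q W₁ ↔ Plus Q W₂)))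
  exk : ∀ j : ℕ, 1 ≤ j → cc (Fintype.card F) r * j + 2 ≤ Fintype.card ι →
      ∃ x : GL ι F, x ∈ Cfsg.Geo.omegaGL Q ∧ orderOf x = r ∧
        Module.finrank F (fixSp (x : Matrix ι ι F)) + cc (Fintype.card F) r * j = Fintype.card ι
  ex0 : Fintype.card ι % cc (Fintype.card F) r = 0 →
      (Odd (ordI (Fintype.card F) r) ∨ Even (Fintype.card ι / ordI (Fintype.card F) r)) →
      ∃ x : GL ι F, x ∈ Cfsg.Geo.omegaGL Q ∧ orderOf x = r ∧
        Module.finrank F (fixSp (x : Matrix ι ι F)) = 0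
  cong : ∀ (m : ℕ) (x : GL ι F), x ∈ Cfsg.isometryGroup F Q → x ^ r = 1 →
      Nat.card (HypSp Q m) ≡ Nat.card {W : HypSp Q m // Inv (x : Matrix ι ι F) W.1} [MOD r]
  cntIn : ∀ x : Matrix ι ι F, x ^ r = 1 → (∀ v, Q (x *ᵥ v) = Q v) →
    ∀ (m : ℕ), Even m → m < Module.finrank F (fixSp x) →
      Module.finrank F (fixSp x) < cc (Fintype.card F) r →
      ¬ r ∣ Nat.card {W : HypSp Q m // W.1 ≤ fixSp x}

section
variable {F : Type u} [Field F] [Fintype F] {ι : Type} [Fintype ι] [DecidableEq ι]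
variable {Q : (ι → F) → F} {r : ℕ}

theorem cc_def (q r : ℕ) : cc q r = if Even (ordI q r) then ordI q r else 2 * ordI q r := rfl

/-- the type of an invariant nondegenerate subspace of the moved space of dimension `c t` -/
theorem tau_of (B : Bdl Q r) (hr : r.Prime) (hrq : ¬ r ∣ Fintype.card F)
    (x : Matrix ι ι F) (hx : x ^ r = 1) (hiso : ∀ v, Q (x *ᵥ v) = Q v)
    (W : Submodule F (ι → F)) (hW : W ≤ movSp x) (hinv : Inv x W) (hnd : Nd Q W) (t : ℕ)
    (hdim : Module.finrank F W = cc (Fintype.card F) r * t) :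
    Plus Q W ↔ (Odd (ordI (Fintype.card F) r) ∨ Even t) := by
  have h := (B.div x hx hiso W hW hinv hnd).2
  rw [hdim] at h
  exact h.trans (type_iff (ordI_pos hr hrq) (cc_def _ _) t)

/-- the fixed space has the type of the moved space (the whole space is of plus type) -/
theorem tau_fix (B : Bdl Q r) (hr : r.Prime) (hrq : ¬ r ∣ Fintype.card F)
    (x : Matrix ι ι F) (hx : x ^ r = 1) (hiso : ∀ v, Q (x *ᵥ v) = Q v) (j : ℕ)
    (hj : Module.finrank F (movSp x) = cc (Fintype.card F) r * j)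
    (hfe : Even (Module.finrank F (fixSp x))) :
    Plus Q (fixSp x) ↔ (Odd (ordI (Fintype.card F) r) ∨ Even j) := by
  obtain ⟨hNdC, hNdN, hPerp, hCompl, hInvN, -⟩ := B.split x hx hiso
  obtain ⟨c', hc'⟩ := cc_even (Fintype.card F) r
  obtain ⟨-, -, hplusT⟩ := B.sum (fixSp x) (movSp x) hNdC hNdN hPerp
  have h6 := hplusT hfe (by rw [hj, hc', mul_assoc]; exact even_two_mul _)
  rw [hCompl.sup_eq_top] at h6
  exact (h6.mp B.plus_top).trans (tau_of B hr hrq x hx hiso (movSp x) le_rfl hInvN hNdN j hj)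

theorem dim_fix_mov (B : Bdl Q r) (x : Matrix ι ι F) (hx : x ^ r = 1)
    (hiso : ∀ v, Q (x *ᵥ v) = Q v) :
    Module.finrank F (fixSp x) + Module.finrank F (movSp x) = Fintype.card ι := by
  obtain ⟨-, -, -, hCompl, -, -⟩ := B.split x hx hiso
  rw [Submodule.finrank_add_eq_of_isCompl hCompl, Module.finrank_fintype_fun_eq_card]

/-- a `Good` pair `(j', e)` yields an invariant hyperbolic `m`-space -/
theorem build (B : Bdl Q r) (hr : r.Prime) (hrq : ¬ r ∣ Fintype.card F)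
    (x : Matrix ι ι F) (hx : x ^ r = 1) (hiso : ∀ v, Q (x *ᵥ v) = Q v)
    (m j j' e : ℕ) (hme : Even m)
    (hj : Module.finrank F (movSp x) = cc (Fintype.card F) r * j)
    (h1 : j' ≤ j) (h2 : e + cc (Fintype.card F) r * j' = m)
    (h3 : e + cc (Fintype.card F) r * j ≤ Fintype.card ι)
    (h4 : e = 0 → (Odd (ordI (Fintype.card F) r) ∨ Even j'))
    (h5 : e + cc (Fintype.card F) r * j = Fintype.card ι → 0 < e →
      ((Odd (ordI (Fintype.card F) r) ∨ Even j') ↔ (Odd (ordI (Fintype.card F) r) ∨ Even j))) :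
    ∃ W : Submodule F (ι → F), (Module.finrank F W = m ∧ Nd Q W ∧ Plus Q W) ∧ Inv x W := by
  obtain ⟨hNdC, hNdN, hPerp, hCompl, hInvN, -⟩ := B.split x hx hiso
  have hdim := dim_fix_mov B x hx hiso
  obtain ⟨c', hc'⟩ := cc_even (Fintype.card F) r
  obtain ⟨W₁, hW₁le, hW₁inv, hW₁nd, hW₁dim⟩ := B.sub x hx hiso (movSp x) le_rfl hInvN hNdN j'
    (by rw [hj]; exact Nat.mul_le_mul_left _ h1)
  have hT1 := tau_of B hr hrq x hx hiso W₁ hW₁le hW₁inv hW₁nd j' hW₁dim
  have hW₁even : Even (cc (Fintype.card F) r * j') := by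
    rw [hc', mul_assoc]; exact even_two_mul _
  by_cases he0 : e = 0
  · exact ⟨W₁, ⟨by rw [hW₁dim]; omega, hW₁nd, hT1.mpr (h4 he0)⟩, hW₁inv⟩
  · have heven : Even e := by
      have h6 : e = m - cc (Fintype.card F) r * j' := by omega
      rw [h6]
      exact (Nat.even_sub (by omega)).mpr ⟨fun _ => hW₁even, fun _ => hme⟩
    by_cases hlt : e + 1 ≤ Module.finrank F (fixSp x)
    · obtain ⟨W₀, hW₀le, hW₀nd, hW₀dim, hW₀plus⟩ :=
        B.geom (fixSp x) hNdC e (Plus Q W₁) heven hlt (fun h => absurd h he0)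
      have hperp : Perp Q W₀ W₁ := fun u hu v hv => hPerp u (hW₀le hu) v (hW₁le hv)
      obtain ⟨hnd, hdimsum, hplus⟩ := B.sum W₀ W₁ hW₀nd hW₁nd hperp
      refine ⟨W₀ ⊔ W₁, ⟨by rw [hdimsum, hW₀dim, hW₁dim]; exact h2, hnd, ?_⟩,
        inv_sup hW₀le hW₁inv⟩
      exact (hplus (by rw [hW₀dim]; exact heven) (by rw [hW₁dim]; exact hW₁even)).mpr hW₀plus
    · have hfe : Module.finrank F (fixSp x) = e := by omega
      have hTfix := tau_fix B hr hrq x hx hiso j hj (by rw [hfe]; exact heven)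
      have hperp : Perp Q (fixSp x) W₁ := fun u hu v hv => hPerp u hu v (hW₁le hv)
      obtain ⟨hnd, hdimsum, hplus⟩ := B.sum (fixSp x) W₁ hNdC hW₁nd hperp
      refine ⟨fixSp x ⊔ W₁, ⟨by rw [hdimsum, hfe, hW₁dim]; exact h2, hnd, ?_⟩,
        inv_sup le_rfl hW₁inv⟩
      apply (hplus (by rw [hfe]; exact heven) (by rw [hW₁dim]; exact hW₁even)).mpr
      rw [hTfix, hT1]
      exact (h5 (by omega) (by omega)).symm

/-- [STRFIX] for the bundle -/
theorem strFix_of (B : Bdl Q r) (hr : r.Prime) (hrq : ¬ r ∣ Fintype.card F)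
    (x : Matrix ι ι F) (hx : x ^ r = 1) (hiso : ∀ v, Q (x *ᵥ v) = Q v) (hx1 : x ≠ 1)
    (m : ℕ) (hme : Even m) :
    ∃ j : ℕ, (1 ≤ j ∧ cc (Fintype.card F) r * j ≤ Fintype.card ι ∧
        (cc (Fintype.card F) r * j = Fintype.card ι →
          (Odd (ordI (Fintype.card F) r) ∨ Even j))) ∧
      ∀ j' e : ℕ, (j' ≤ j ∧ e + cc (Fintype.card F) r * j' = m ∧
          e + cc (Fintype.card F) r * j ≤ Fintype.card ι ∧
          (e = 0 → (Odd (ordI (Fintype.card F) r) ∨ Even j')) ∧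
          (e + cc (Fintype.card F) r * j = Fintype.card ι → 0 < e →
            ((Odd (ordI (Fintype.card F) r) ∨ Even j') ↔
              (Odd (ordI (Fintype.card F) r) ∨ Even j)))) →
        ∃ W : Submodule F (ι → F), (Module.finrank F W = m ∧ Nd Q W ∧ Plus Q W) ∧ Inv x W := by
  obtain ⟨hNdC, hNdN, hPerp, hCompl, hInvN, -⟩ := B.split x hx hiso
  have hdim := dim_fix_mov B x hx hiso
  obtain ⟨⟨j, hj⟩, -⟩ := B.div x hx hiso (movSp x) le_rfl hInvN hNdN
  refine ⟨j, ⟨?_, by omega, ?_⟩, ?_⟩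
  · by_contra hj0
    have hj0' : j = 0 := by omega
    rw [hj0', mul_zero] at hj
    have hbot : movSp x = ⊥ := Submodule.finrank_eq_zero.mp hj
    apply hx1
    unfold movSp at hbot
    rw [LinearMap.range_eq_bot, sub_eq_zero] at hbot
    have h7 : Matrix.toLin' x = Matrix.toLin' (1 : Matrix ι ι F) := by
      rw [hbot, Matrix.toLin'_one]; rfl
    exact Matrix.toLin'.injective h7
  · intro hcj
    have hf0 : Module.finrank F (fixSp x) = 0 := by omega
    have h8 := tau_fix B hr hrq x hx hiso j hj (by rw [hf0]; exact Even.zero)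
    apply h8.mp
    have hbot : fixSp x = ⊥ := Submodule.finrank_eq_zero.mp hf0
    rw [hbot]
    exact ⟨⊥, le_rfl, fun w hw => by
      rw [Submodule.mem_bot] at hw
      rw [hw]
      have := B.plus_top
      obtain ⟨U, -, hU, -⟩ := this
      exact hU 0 U.zero_mem, by simp⟩
  · rintro j' e ⟨h1, h2, h3, h4, h5⟩
    exact build B hr hrq x hx hiso m j j' e hme hj h1 h2 h3 h4 h5

end

end Cfsg.Agent.Lib.Helper39.PHyp
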