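import Mathlib
import Cfsg.Agent.Lib.Helper39.PHyp.RCore

/-!
# PHYP (S5974), regime `r` odd: derangements and the count, for a hypothesis bundle `Bdl Q r`
-/

set_option autoImplicit false

universe u

open Matrix
open scoped MatrixGroups
open Cfsg.Agent.Lib.Helper23.OHyp

namespace Cfsg.Agent.Lib.Helper39.PHyp

section
variable {F : Type u} [Field F] [Fintype F] {ι : Type} [Fintype ι] [DecidableEq ι]
variable {Q : (ι → F) → F} {r : ℕ}

theorem coe_pow_eq_one {x : GL ι F} (hxr : x ^ r = 1) : (x : Matrix ι ι F) ^ r = 1 := by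
  rw [← Units.val_pow_eq_pow_val, hxr]; rfl

/-- [STRDER] for the bundle -/
theorem strDer_of (B : Bdl Q r) (hr : r.Prime) (hr2 : r ≠ 2) (hrq : ¬ r ∣ Fintype.card F)
    (hn : Even (Fintype.card ι)) (m : ℕ) (hme : Even m) (j : ℕ) (hj1 : 1 ≤ j)
    (hcj : cc (Fintype.card F) r * j ≤ Fintype.card ι)
    (htau : cc (Fintype.card F) r * j = Fintype.card ι →
      (Odd (ordI (Fintype.card F) r) ∨ Even j)) :
    ∃ x : GL ι F, x ∈ Cfsg.Geo.omegaGL Q ∧ x ^ r = 1 ∧
      (∀ z : F, (x : Matrix ι ι F) ≠ z • (1 : Matrix ι ι F)) ∧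
      ∀ W : Submodule F (ι → F), (Module.finrank F W = m ∧ Nd Q W ∧ Plus Q W) →
        Inv (x : Matrix ι ι F) W →
        ∃ j' e : ℕ, j' ≤ j ∧ e + cc (Fintype.card F) r * j' = m ∧
          e + cc (Fintype.card F) r * j ≤ Fintype.card ι ∧
          (e = 0 → (Odd (ordI (Fintype.card F) r) ∨ Even j')) ∧
          (e + cc (Fintype.card F) r * j = Fintype.card ι → 0 < e →
            ((Odd (ordI (Fintype.card F) r) ∨ Even j') ↔
              (Odd (ordI (Fintype.card F) r) ∨ Even j))) := by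
  have hipos : 0 < ordI (Fintype.card F) r := ordI_pos hr hrq
  have hcpos : 0 < cc (Fintype.card F) r := cc_pos hipos
  obtain ⟨c', hc'⟩ := cc_even (Fintype.card F) r
  have hcjeven : ∀ t : ℕ, Even (cc (Fintype.card F) r * t) := by
    intro t; rw [hc', mul_assoc]; exact even_two_mul _
  have hex : ∃ x : GL ι F, x ∈ Cfsg.Geo.omegaGL Q ∧ orderOf x = r ∧
      Module.finrank F (fixSp (x : Matrix ι ι F)) + cc (Fintype.card F) r * j
        = Fintype.card ι := by
    rcases Nat.lt_or_ge (cc (Fintype.card F) r * j) (Fintype.card ι) with hlt | hge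
    · apply B.exk j hj1
      obtain ⟨a, ha⟩ := hn
      obtain ⟨b, hb⟩ := hcjeven j
      omega
    · have heq : cc (Fintype.card F) r * j = Fintype.card ι := le_antisymm hcj hge
      obtain ⟨x, hxΩ, hxo, hxf⟩ := B.ex0 (by rw [← heq]; exact Nat.mul_mod_right _ j)
        (by rw [← heq]; exact (type_iff hipos (cc_def _ _) j).mpr (htau heq))
      exact ⟨x, hxΩ, hxo, by rw [hxf, zero_add]; exact heq⟩
  obtain ⟨x, hxΩ, hxo, hxf⟩ := hex
  have hxiso := mem_iso_of_mem_omega hxΩ
  have hxr : x ^ r = 1 := by rw [← hxo]; exact pow_orderOf_eq_one x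
  have hpow : (x : Matrix ι ι F) ^ r = 1 := coe_pow_eq_one hxr
  have hiso := isom_of_mem hxiso
  refine ⟨x, hxΩ, hxr, ?_, ?_⟩
  · intro z hz
    have hzz : z * z = 1 := B.scal z (fun v => by rw [← hz]; exact hiso v)
    have hx2 : x ^ 2 = 1 := by
      apply Units.ext
      rw [Units.val_pow_eq_pow_val, hz, pow_two, Matrix.smul_mul, Matrix.one_mul, smul_smul, hzz,
        one_smul]
      rfl
    have hdvd : orderOf x ∣ 2 := orderOf_dvd_of_pow_eq_one hx2
    rw [hxo] at hdvd
    exact hr2 ((Nat.prime_dvd_prime_iff_eq hr Nat.prime_two).mp hdvd)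
  · rintro W ⟨hWdim, hWnd, hWplus⟩ hWinv
    obtain ⟨hNdC, hNdN, hPerp, hCompl, hInvN, hWs⟩ := B.split _ hpow hiso
    obtain ⟨hW0nd, hW1nd, hW1inv, hsup, hdims⟩ := hWs W hWinv hWnd
    have hdim := dim_fix_mov B _ hpow hiso
    have hmov : Module.finrank F (movSp (x : Matrix ι ι F)) = cc (Fintype.card F) r * j := by
      omega
    obtain ⟨⟨j', hj'⟩, -⟩ := B.div _ hpow hiso (W ⊓ movSp (x : Matrix ι ι F)) inf_le_right
      hW1inv hW1nd
    have hT1 := tau_of B hr hrq _ hpow hiso (W ⊓ movSp (x : Matrix ι ι F)) inf_le_right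
      hW1inv hW1nd j' hj'
    have hle1 : Module.finrank F ↥(W ⊓ movSp (x : Matrix ι ι F)) ≤
        Module.finrank F (movSp (x : Matrix ι ι F)) := Submodule.finrank_mono inf_le_right
    have hle0 : Module.finrank F ↥(W ⊓ fixSp (x : Matrix ι ι F)) ≤
        Module.finrank F (fixSp (x : Matrix ι ι F)) := Submodule.finrank_mono inf_le_right
    have heven0 : Even (Module.finrank F ↥(W ⊓ fixSp (x : Matrix ι ι F))) := by
      have h6 : Module.finrank F ↥(W ⊓ fixSp (x : Matrix ι ι F)) =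
          m - cc (Fintype.card F) r * j' := by omega
      rw [h6]
      exact (Nat.even_sub (by omega)).mpr ⟨fun _ => hcjeven j', fun _ => hme⟩
    have hperpW : Perp Q (W ⊓ fixSp (x : Matrix ι ι F)) (W ⊓ movSp (x : Matrix ι ι F)) :=
      fun u hu v hv => hPerp u hu.2 v hv.2
    obtain ⟨-, -, hplusW⟩ := B.sum _ _ hW0nd hW1nd hperpW
    have hW0 : Plus Q (W ⊓ fixSp (x : Matrix ι ι F)) ↔
        (Odd (ordI (Fintype.card F) r) ∨ Even j') := by
      have h7 := hplusW heven0 (by rw [hj']; exact hcjeven j')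
      rw [hsup] at h7
      exact (h7.mp hWplus).trans hT1
    refine ⟨j', Module.finrank F ↥(W ⊓ fixSp (x : Matrix ι ι F)), ?_, by omega, by omega, ?_, ?_⟩
    · rw [hj', hmov] at hle1
      exact Nat.le_of_mul_le_mul_left hle1 hcpos
    · intro he0
      apply hW0.mp
      have hbot : W ⊓ fixSp (x : Matrix ι ι F) = ⊥ := Submodule.finrank_eq_zero.mp he0
      rw [hbot]
      obtain ⟨U, -, hU, -⟩ := B.plus_top
      exact ⟨⊥, le_rfl, fun w hw => by
        rw [Submodule.mem_bot] at hw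
        rw [hw]
        exact hU 0 U.zero_mem, by simp⟩
    · intro hfull _
      have hfe : Module.finrank F ↥(W ⊓ fixSp (x : Matrix ι ι F)) =
          Module.finrank F (fixSp (x : Matrix ι ι F)) := by omega
      have heq : W ⊓ fixSp (x : Matrix ι ι F) = fixSp (x : Matrix ι ι F) :=
        Submodule.eq_of_le_of_finrank_eq inf_le_right hfe
      have hTfix := tau_fix B hr hrq _ hpow hiso j hmov (by rw [← hfe]; exact heven0)
      rw [heq] at hW0
      exact hW0.symm.trans hTfix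

/-- [CNT] for the bundle -/
theorem cnt_of (B : Bdl Q r) (hr : r.Prime) (hrq : ¬ r ∣ Fintype.card F)
    (hn : Even (Fintype.card ι)) (m : ℕ) (hme : Even m) (hm2 : 2 ≤ m)
    (hmc : m < cc (Fintype.card F) r)
    (hk : 0 < Fintype.card ι % cc (Fintype.card F) r)
    (hS : m < Fintype.card ι % cc (Fintype.card F) r ∨
      (m = Fintype.card ι % cc (Fintype.card F) r ∧
        (Odd (ordI (Fintype.card F) r) ∨ Even (Fintype.card ι / cc (Fintype.card F) r)))) :
    ¬ r ∣ Nat.card (HypSp Q m) := by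
  intro hdvd
  have hipos : 0 < ordI (Fintype.card F) r := ordI_pos hr hrq
  have hcpos : 0 < cc (Fintype.card F) r := cc_pos hipos
  have hdm := Nat.div_add_mod (Fintype.card ι) (cc (Fintype.card F) r)
  have hexx : ∃ x : GL ι F, x ∈ Cfsg.isometryGroup F Q ∧ x ^ r = 1 ∧
      Module.finrank F (fixSp (x : Matrix ι ι F)) = Fintype.card ι % cc (Fintype.card F) r := by
    rcases Nat.lt_or_ge (Fintype.card ι) (cc (Fintype.card F) r) with hnc | hcn
    · refine ⟨1, one_mem _, one_pow r, ?_⟩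
      rw [Units.val_one, fixSp_one, finrank_top, Module.finrank_fintype_fun_eq_card,
        Nat.mod_eq_of_lt hnc]
    · have hJ1 : 1 ≤ Fintype.card ι / cc (Fintype.card F) r := Nat.div_pos hcn hcpos
      have hkev : Even (Fintype.card ι % cc (Fintype.card F) r) := mod_cc_even hn
      have hk2 : 2 ≤ Fintype.card ι % cc (Fintype.card F) r := by
        obtain ⟨t, ht⟩ := hkev; omega
      obtain ⟨x, hxΩ, hxo, hxf⟩ := B.exk (Fintype.card ι / cc (Fintype.card F) r) hJ1 (by omega)
      exact ⟨x, mem_iso_of_mem_omega hxΩ, by rw [← hxo]; exact pow_orderOf_eq_one x, by omega⟩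
  obtain ⟨x, hxiso, hxr, hxf⟩ := hexx
  have hpow : (x : Matrix ι ι F) ^ r = 1 := coe_pow_eq_one hxr
  have hiso := isom_of_mem hxiso
  obtain ⟨hNdC, hNdN, hPerp, hCompl, hInvN, hWs⟩ := B.split _ hpow hiso
  have hdim := dim_fix_mov B _ hpow hiso
  have hcong := B.cong m x hxiso hxr
  have hcard : Nat.card {W : HypSp Q m // Inv (x : Matrix ι ι F) W.1} =
      Nat.card {W : HypSp Q m // W.1 ≤ fixSp (x : Matrix ι ι F)} := by
    apply Nat.card_congr
    apply Equiv.subtypeEquivRight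
    intro W
    constructor
    · intro hinv
      obtain ⟨-, hW1nd, hW1inv, hsup, hdims⟩ := hWs W.1 hinv W.2.2.1
      obtain ⟨⟨j, hj⟩, -⟩ := B.div _ hpow hiso (W.1 ⊓ movSp (x : Matrix ι ι F)) inf_le_right
        hW1inv hW1nd
      have hWm := W.2.1
      have hj0 : j = 0 := by
        by_contra hne
        have : cc (Fintype.card F) r ≤ cc (Fintype.card F) r * j :=
          Nat.le_mul_of_pos_right _ (Nat.pos_of_ne_zero hne)
        omega
      have hbot : W.1 ⊓ movSp (x : Matrix ι ι F) = ⊥ :=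
        Submodule.finrank_eq_zero.mp (by rw [hj, hj0, mul_zero])
      rw [hbot, sup_bot_eq] at hsup
      rw [← hsup]; exact inf_le_right
    · intro hle
      have h3 := inv_sup (x := (x : Matrix ι ι F)) (W₀ := W.1) (W₁ := ⊥) hle
        (by unfold Cfsg.Agent.Lib.Helper23.OHyp.Inv; simp)
      simpa using h3
  rw [hcard] at hcong
  have h1 : Nat.card {W : HypSp Q m // W.1 ≤ fixSp (x : Matrix ι ι F)} % r = 0 := by
    rw [← hcong]; exact Nat.mod_eq_zero_of_dvd hdvd
  rcases hS with hlt | ⟨heq, hty⟩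
  · exact B.cntIn _ hpow hiso m hme (by rw [hxf]; exact hlt)
      (by rw [hxf]; exact Nat.mod_lt _ hcpos) (Nat.dvd_of_mod_eq_zero h1)
  · have hfm : Module.finrank F (fixSp (x : Matrix ι ι F)) = m := by rw [hxf]; exact heq.symm
    have hmov : Module.finrank F (movSp (x : Matrix ι ι F)) =
        cc (Fintype.card F) r * (Fintype.card ι / cc (Fintype.card F) r) := by omega
    have hplusfix : Plus Q (fixSp (x : Matrix ι ι F)) := by
      apply (tau_fix B hr hrq _ hpow hiso _ hmov (by rw [hfm]; exact hme)).mpr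
      rcases hty with h | h
      · exact Or.inl h
      · exact Or.inr h
    have hcard1 : Nat.card {W : HypSp Q m // W.1 ≤ fixSp (x : Matrix ι ι F)} = 1 := by
      rw [Nat.card_eq_one_iff_unique]
      refine ⟨⟨?_⟩, ⟨⟨⟨fixSp (x : Matrix ι ι F), hfm, hNdC, hplusfix⟩, le_rfl⟩⟩⟩
      rintro ⟨⟨W, hW⟩, hWle⟩ ⟨⟨W', hW'⟩, hW'le⟩
      have e1 : W = fixSp (x : Matrix ι ι F) :=
        Submodule.eq_of_le_of_finrank_eq hWle (by rw [hW.1, hfm])
      have e2 : W' = fixSp (x : Matrix ι ι F) :=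
        Submodule.eq_of_le_of_finrank_eq hW'le (by rw [hW'.1, hfm])
      subst e1
      subst e2
      rfl
    rw [hcard1] at h1
    have h2 : r ∣ 1 := Nat.dvd_of_mod_eq_zero h1
    exact hr.one_lt.ne' (Nat.dvd_one.mp h2)

end

end Cfsg.Agent.Lib.Helper39.PHyp
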