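import Mathlib
import Cfsg.Agent.Lib.Helper39.PHyp.RCore2
import Cfsg.Agent.Lib.Helper63.PHyp.Defs

/-!
# PHYP (S5974), regime `r` odd: `StrFixAt F`, `StrDerAt F`, `CntAt F` from the bundles
`Bdl (quadFormPlus d F) r`
-/

set_option autoImplicit false

universe u

open Matrix
open scoped MatrixGroups
open Cfsg.Agent.Lib.Helper23.OHyp

namespace Cfsg.Agent.Lib.Helper39.PHyp

/-- the hyperbolic `m`-spaces of S5974 in the vocabulary of OHYP -/
theorem hyp_iff {F : Type u} [Field F] (d m : ℕ) (W : Submodule F (Fin d ⊕ Fin d → F)) :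
    Cfsg.Agent.Lib.Helper63.PHyp.Hyp d m W ↔
      (Module.finrank F W = m ∧ Nd (Cfsg.quadFormPlus d F) W ∧
        Plus (Cfsg.quadFormPlus d F) W) := by
  unfold Cfsg.Agent.Lib.Helper63.PHyp.Hyp Nd Plus Cfsg.Geo.IsNondegenerateOn
    Cfsg.Geo.IsPlusTypeOn Cfsg.Geo.IsTotallySingularQuad
  constructor
  · rintro ⟨h1, h2, U, hU, hU2, hU0⟩
    refine ⟨h1, fun w hw hw0 => ?_, U, hU, hU0, by rw [h1]; exact hU2⟩
    obtain ⟨v, hv, hne⟩ := h2 w hw hw0
    exact ⟨⟨v, hv, by rwa [QuadraticMap.polar_comm]⟩, ⟨v, hv, hne⟩⟩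
  · rintro ⟨h1, h2, U, hU, hU0, hU2⟩
    refine ⟨h1, fun u hu hu0 => ?_, U, hU, by rw [← h1]; exact hU2, hU0⟩
    exact (h2 u hu hu0).2

theorem card_sum_fin (d : ℕ) : Fintype.card (Fin d ⊕ Fin d) = 2 * d := by
  rw [Fintype.card_sum, Fintype.card_fin]; ring

section
variable {F : Type u} [Field F] [Fintype F]

/-- [STRFIX] over `F` from the bundles -/
theorem strFixAt_of
    (hB : ∀ d r : ℕ, 4 ≤ d → r.Prime → r ≠ 2 → ¬ r ∣ Fintype.card F →
      Bdl (Cfsg.quadFormPlus d F) r) :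
    Cfsg.Agent.Lib.Helper63.PHyp.StrFixAt F := by
  intro d m r i c hd hm hme hmd hr hr2 hrq hi hc y hy hyr hy1
  have B := hB d r hd hr hr2 hrq
  have hcard := card_sum_fin d
  have hiI : i = ordI (Fintype.card F) r := hi
  have hcc : c = cc (Fintype.card F) r := by rw [hc, hiI]; rfl
  subst hiI
  subst hcc
  have hpow := coe_pow_eq_one hyr
  have hiso := isom_of_mem hy
  have hne : (y : Matrix (Fin d ⊕ Fin d) (Fin d ⊕ Fin d) F) ≠ 1 := fun h => hy1 (Units.ext h)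
  obtain ⟨j, ⟨hj1, hj2, hj3⟩, hall⟩ := strFix_of B hr hrq _ hpow hiso hne m hme
  unfold Cfsg.Agent.Lib.Helper63.PHyp.Valid Cfsg.Agent.Lib.Helper63.PHyp.Good
    Cfsg.Agent.Lib.Helper63.PHyp.Tau Cfsg.Agent.Lib.Helper63.PHyp.Fixes
  refine ⟨j, ⟨hj1, by rw [← hcard]; exact hj2, fun h => hj3 (by rw [hcard]; exact h)⟩, ?_⟩
  rintro j' e ⟨g1, g2, g3, g4, g5⟩
  obtain ⟨W, hW, hWinv⟩ := hall j' e
    ⟨g1, g2, by rw [hcard]; exact g3, g4, fun h => g5 (by rw [← hcard]; exact h)⟩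
  exact ⟨W, (hyp_iff d m W).mpr hW, hWinv⟩

/-- [STRDER] over `F` from the bundles -/
theorem strDerAt_of
    (hB : ∀ d r : ℕ, 4 ≤ d → r.Prime → r ≠ 2 → ¬ r ∣ Fintype.card F →
      Bdl (Cfsg.quadFormPlus d F) r) :
    Cfsg.Agent.Lib.Helper63.PHyp.StrDerAt F := by
  intro d m r i c hd hm hme hmd hr hr2 hrq hi hc j hj
  have B := hB d r hd hr hr2 hrq
  have hcard := card_sum_fin d
  have hiI : i = ordI (Fintype.card F) r := hi
  have hcc : c = cc (Fintype.card F) r := by rw [hc, hiI]; rfl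
  subst hiI
  subst hcc
  unfold Cfsg.Agent.Lib.Helper63.PHyp.Valid Cfsg.Agent.Lib.Helper63.PHyp.Tau at hj
  obtain ⟨hj1, hj2, hj3⟩ := hj
  obtain ⟨x, hxΩ, hxr, hxns, hxW⟩ := strDer_of B hr hr2 hrq
    (by rw [hcard]; exact even_two_mul d) m hme j hj1 (by rw [hcard]; exact hj2)
    (fun h => hj3 (by rw [← hcard]; exact h))
  refine ⟨x, hxΩ, hxr, hxns, ?_⟩
  intro W hW hWinv
  obtain ⟨j', e, g1, g2, g3, g4, g5⟩ := hxW W ((hyp_iff d m W).mp hW) hWinv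
  unfold Cfsg.Agent.Lib.Helper63.PHyp.Good Cfsg.Agent.Lib.Helper63.PHyp.Tau
  exact ⟨j', e, g1, g2, by rw [← hcard]; exact g3, g4, fun h => g5 (by rw [hcard]; exact h)⟩

/-- [CNT] over `F` from the bundles -/
theorem cntAt_of
    (hB : ∀ d r : ℕ, 4 ≤ d → r.Prime → r ≠ 2 → ¬ r ∣ Fintype.card F →
      Bdl (Cfsg.quadFormPlus d F) r) :
    Cfsg.Agent.Lib.Helper63.PHyp.CntAt F := by
  intro d m r i c hd hm hme hmd hr hr2 hrq hi hc hS
  have B := hB d r hd hr hr2 hrq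
  have hcard := card_sum_fin d
  have hiI : i = ordI (Fintype.card F) r := hi
  have hcc : c = cc (Fintype.card F) r := by rw [hc, hiI]; rfl
  subst hiI
  subst hcc
  unfold Cfsg.Agent.Lib.Helper63.PHyp.SCond at hS
  obtain ⟨hS1, hS2, hS3⟩ := hS
  have h := cnt_of B hr hrq (by rw [hcard]; exact even_two_mul d) m hme hm hS1
    (by rw [hcard]; exact hS2) (by rw [hcard]; exact hS3)
  intro hdvd
  apply h
  have e : Nat.card {W : Submodule F (Fin d ⊕ Fin d → F) //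
      Cfsg.Agent.Lib.Helper63.PHyp.Hyp d m W} = Nat.card (HypSp (Cfsg.quadFormPlus d F) m) :=
    Nat.card_congr (Equiv.subtypeEquivRight (fun W => hyp_iff d m W))
  rw [← e]
  exact hdvd

end

end Cfsg.Agent.Lib.Helper39.PHyp
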